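import Cfsg.Agent.H654.FourStep
import Cfsg.Agent.SporadicA.M11Facts2
import Cfsg.Agent.SporadicA.M11Cent
import Cfsg.Agent.UGT.End.MEleven
import Cfsg.Agent.H413.JOneLocal
import Cfsg.Agent.J2Type.ThreeF
import Cfsg.Agent.KFacts.J2.Facts

/-!
# `Loc` for `J₁`, `J₂`, `M₁₁` (helper654, task 1288 of helper652)
-/

set_option autoImplicit false

open Cfsg

namespace Cfsg.Agent.H654.FourRows

open Cfsg.Agent.H652.Four Cfsg.Agent.Blocks.LocalRing Cfsg.Agent.Blocks Cfsg.Agent.H654.FourStep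
open Subgroup

universe u v

theorem four_dvd_index {G : Type*} [Group G] [Finite G] {x : G} {n c k : ℕ} (hG : Nat.card G = n)
    (hx : Nat.card (centralizer ({x} : Set G)) = c) (hc : 0 < c) (h : n = c * (4 * k)) :
    4 ∣ (centralizer ({x} : Set G)).index := by
  have h1 := (centralizer ({x} : Set G)).card_mul_index
  rw [hx, hG, h] at h1
  exact ⟨k, Nat.eq_of_mul_eq_mul_left hc h1⟩

/-! ## `J₁` -/

theorem loc_J1' : Loc Spor.J1 := by
  have := H413.JOneLocal.fin_J1
  have L := H413.JOneLocal.isLocal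
  obtain ⟨e⟩ := H413.JOneLocal.cent_equiv
  have hu := H413.JOneLocal.orderOf_u
  set u := H413.JOneLocal.u with hud
  let φ : alternatingGroup (Fin 5) →* Spor.J1 :=
    (centralizer ({u} : Set Spor.J1)).subtype.comp (e.symm.toMonoidHom.comp (MonoidHom.inr _ _))
  have hφ : Function.Injective φ := by
    intro a b hab
    have h1 : e.symm (1, a) = e.symm (1, b) := Subtype.ext hab
    exact congrArg Prod.snd (e.symm.injective h1)
  have hr : ∀ g : Spor.J1, ∀ hg : g ∈ centralizer ({u} : Set Spor.J1),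
      (e ⟨g, hg⟩).1 = 1 → g ∈ φ.range := by
    intro g hg h1
    refine ⟨(e ⟨g, hg⟩).2, ?_⟩
    have h2 : ((1 : Multiplicative (ZMod 2)), (e ⟨g, hg⟩).2) = e ⟨g, hg⟩ := Prod.ext h1.symm rfl
    have h3 : e.symm ((1 : Multiplicative (ZMod 2)), (e ⟨g, hg⟩).2) = ⟨g, hg⟩ := by
      rw [h2, e.symm_apply_apply]
    exact congrArg Subtype.val h3
  have h2 : ∀ z : Multiplicative (ZMod 2), z * z * z = 1 → z = 1 := by decide
  obtain ⟨x, hx⟩ : ∃ x : φ.range, orderOf x = 3 := by
    have : Fact (Nat.Prime 3) := ⟨by norm_num⟩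
    refine exists_prime_orderOf_dvd_card' 3 ?_
    rw [← Nat.card_congr (MonoidHom.ofInjective hφ).toEquiv, Nat.card_eq_fintype_card]
    decide
  have hx3 : orderOf (x : Spor.J1) = 3 := by rw [orderOf_coe]; exact hx
  refine ⟨x, four_dvd_index (k := 1463) H413.JOneLocal.card_J1 (L.cent3 _ hx3) (by norm_num)
    (by norm_num), fun M hM => ?_⟩
  refine nn_of_alt_five hM hu φ.range ?_ ?_ ?_ (MonoidHom.ofInjective hφ).symm hx3 x.2
  · rintro _ ⟨a, rfl⟩
    exact (e.symm (1, a)).2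
  · rintro h hh _ ⟨a, rfl⟩
    have hm : h * φ a * h⁻¹ ∈ centralizer ({u} : Set Spor.J1) :=
      mul_mem (mul_mem hh (e.symm (1, a)).2) (inv_mem hh)
    refine hr _ hm ?_
    have e1 : (⟨h * φ a * h⁻¹, hm⟩ : centralizer ({u} : Set Spor.J1)) =
        ⟨h, hh⟩ * e.symm (1, a) * ⟨h, hh⟩⁻¹ := rfl
    rw [e1, map_mul, map_mul, map_inv, e.apply_symm_apply]
    simp
  · intro g hg h3
    refine hr g hg (h2 _ ?_)
    have e1 : (⟨g, hg⟩ : centralizer ({u} : Set Spor.J1)) * ⟨g, hg⟩ * ⟨g, hg⟩ = 1 := Subtype.ext h3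
    have e2 : (e (⟨g, hg⟩ * ⟨g, hg⟩ * ⟨g, hg⟩)).1 = (e 1).1 := by rw [e1]
    rwa [map_mul, map_mul, map_one] at e2

/-- transport between universes -/
theorem loc_transport {G : Type u} [Group G] [Finite G] {Q : Type v} [Group Q] (e : G ≃* Q) (h : Loc Q) :
    Loc G := by
  obtain ⟨x, hx, hM⟩ := h
  refine ⟨e.symm x, ?_, fun M h2 => NN.of_equiv e ?_⟩
  · have e1 : centralizer ({e.symm x} : Set G) = (centralizer ({x} : Set Q)).comap e.toMonoidHom := by
      ext g
      rw [mem_comap, mem_centralizer_singleton_iff, mem_centralizer_singleton_iff]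
      constructor
      · intro h
        have := congrArg e h
        simpa using this
      · intro h
        apply e.injective
        simpa using h
    rw [e1, index_comap_of_surjective _ e.surjective]
    exact hx
  · rw [e.apply_symm_apply]
    exact hM M h2

theorem loc_J1 {S : Type u} [Group S] [Finite S] (h : Cfsg.Spor.IsoJ1 S) : Loc S := by
  obtain ⟨e⟩ := h
  exact loc_transport e loc_J1'

/-! ## `J₂` -/

theorem loc_J2 {S : Type u} [Group S] [Finite S] (h : Cfsg.Spor.IsoJ2 S) : Loc S := by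
  obtain ⟨z, u, Q, v, ρ, D⟩ := Cfsg.Agent.KFacts.J2.Facts.exists_dat_of h
  have F := D.F
  have hG := Cfsg.Agent.J2Type.Order.card_of_fus F
  obtain ⟨f, U, V, H0, E⟩ := Cfsg.Agent.J2Type.CentU.main F
  have h60 : Nat.card H0 = 60 := Cfsg.Agent.J2Type.ThreeA.card_H0 F E
  obtain ⟨e⟩ := Cfsg.Agent.J2Type.Cent5.exists_equiv F E h60
  obtain ⟨a, b, -, -, hca, hcb, hcl, -⟩ := Cfsg.Agent.J2Type.ThreeF.main F
  refine ⟨f, ?_, fun M hM => ?_⟩
  · rcases hcl f E.f_ord with h1 | h1
    · exact four_dvd_index (k := 140) hG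
        ((Cfsg.Agent.J2Type.Cent5.card_centralizer_of_isConj h1).trans hca) (by norm_num) (by norm_num)
    · exact four_dvd_index (k := 4200) hG
        ((Cfsg.Agent.J2Type.Cent5.card_centralizer_of_isConj h1).trans hcb) (by norm_num) (by norm_num)
  · refine nn_of_alt_five hM F.hu H0 E.str.le E.str.conj_mem (fun g hg h3 => ?_) e E.f_ord E.f_mem
    have h4 : g = (g * g)⁻¹ := eq_inv_of_mul_eq_one_right h3
    rw [h4]
    exact inv_mem (E.str.sq_mem g hg)

/-! ## `M₁₁` -/

theorem loc_M11 {S : Type u} [Group S] [Finite S] (h : Cfsg.Spor.IsoM11 S) : Loc S := by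
  classical
  have hG := UGT.End.MEleven.isM11 h
  have := Cfsg.Agent.Characters.Core.finite_irr (G := S)
  have := Fintype.ofFinite (IrrCharacter S)
  obtain ⟨x, hx, v, hB⟩ := Cfsg.Agent.SporadicA.M11Facts.exists_caseC hG
  obtain ⟨y, hy⟩ : ∃ y : S, orderOf y = 5 := by
    have : Fact (Nat.Prime 5) := ⟨by norm_num⟩
    exact exists_prime_orderOf_dvd_card' 5 (by rw [hG.2]; norm_num)
  obtain ⟨w, hw, hmod, hw1⟩ := Cfsg.Agent.SporadicA.M11Cent.exists_five_values hy
    (Cfsg.Agent.SporadicA.M11Facts.isConj_five hG hy)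
  have hcy := Cfsg.Agent.SporadicA.M11Facts.card_centralizer_five hG hy
  refine ⟨y, four_dvd_index (k := 396) hG.2 hcy (by norm_num) (by norm_num), fun M hM => ?_⟩
  have hidx : (centralizer ({y} : Set S)).index = 1584 := by
    have h1 := (centralizer ({y} : Set S)).card_mul_index
    rw [hcy, hG.2] at h1
    omega
  have e1 := Cfsg.Agent.SporadicA.M11Cent.col_conj hw hw (IsConj.refl y)
  rw [hcy] at e1
  have hle : w (v 5) * w (v 5) ≤ 5 := by
    have := Finset.single_le_sum (f := fun χ => w χ * w χ) (fun χ _ => mul_self_nonneg (w χ))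
      (Finset.mem_univ (v 5))
    rw [e1] at this
    exact_mod_cast this
  have h2 : -2 ≤ w (v 5) ∧ w (v 5) ≤ 2 := by constructor <;> nlinarith
  have h3 := hmod (v 5) 16 (hB.degs 5)
  have h4 : w (v 5) = 1 := by
    push_cast at h3
    omega
  refine NN.of_int hM (v 5) (n := 99) ?_ (by norm_num)
  have h16 : (v 5 : S → ℂ) 1 = ((16 : ℕ) : ℂ) := hB.degs 5
  rw [Basic.centralChar_def, hidx, hw, h4, h16]
  norm_num

end Cfsg.Agent.H654.FourRows
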