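import Mathlib
import Cfsg.Agent.H460.AADef
import Cfsg.Agent.CpAut.Psl

/-!
# The `AA` core for `PSL₂(F)`: field automorphisms (helper654, task 571 for S3833, S3834, S3840)

`field_core` : a field automorphism of `PSL₂(F)` of odd prime order `p` does not satisfy `PA p`.
-/

set_option autoImplicit false

namespace Cfsg.Agent.H654.AAField

open Matrix
open Cfsg.Agent.ClassicalGeometry.AutPSL.Root
open Cfsg.Agent.ClassicalGeometry.AutPSL.Auto
open Cfsg.Agent.ClassicalGeometry.AutPSL.Main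
open Cfsg.Agent.H460.AA

variable {F : Type*} [Field F]

/-- conjugation by an element of `SL₂` -/
theorem lift_cj_coe (b : Matrix.SpecialLinearGroup (Fin 2) F) :
    lift (cj (b : GL (Fin 2) F)) = MulAut.conj (pr b) := by
  apply MulEquiv.ext
  intro x
  obtain ⟨x, rfl⟩ := pr_surjective x
  rw [lift_pr, MulAut.conj_apply, ← map_inv, ← map_mul, ← map_mul]
  congr 1

theorem pr_eq_one_of_conj {b : Matrix.SpecialLinearGroup (Fin 2) F} (h : MulAut.conj (pr b) = 1) : pr b = 1 := by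
  rw [← lift_cj_coe] at h
  have h1 : lift (cj (b : GL (Fin 2) F) * fld (1 : F ≃+* F)) = lift (fld (1 : F ≃+* F)) := by
    rw [map_one fld, mul_one, h, map_one]
  obtain ⟨⟨s, hs⟩, -⟩ := injective_aux h1
  rw [← map_one pr]
  refine (pr_eq_of_smul (c := s) ?_).symm
  rw [Matrix.SpecialLinearGroup.coe_one, smul_one_eq_diagonal, ← scalar_apply, hs]
  rfl

theorem center_psl : Subgroup.center (Matrix.ProjectiveSpecialLinearGroup (Fin 2) F) = ⊥ := by
  rw [eq_bot_iff]
  intro z hz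
  obtain ⟨b, rfl⟩ := pr_surjective z
  rw [Subgroup.mem_bot]
  apply pr_eq_one_of_conj
  apply MulEquiv.ext
  intro l
  rw [MulAut.conj_apply, ← (Subgroup.mem_center_iff.1 hz l), mul_inv_cancel_right]
  rfl

/-- upper triangular matrices -/
def bm (d : F) (c : Fˣ) : Matrix.SpecialLinearGroup (Fin 2) F :=
  ⟨!![(c : F), d * ((c⁻¹ : Fˣ) : F); 0, ((c⁻¹ : Fˣ) : F)], by rw [det_fin_two_of]; simp⟩

theorem coe_bm (d : F) (c : Fˣ) : (bm d c : Matrix (Fin 2) (Fin 2) F) =
    !![(c : F), d * ((c⁻¹ : Fˣ) : F); 0, ((c⁻¹ : Fˣ) : F)] := rfl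

theorem bm_mul (d d' : F) (c c' : Fˣ) : bm d c * bm d' c' = bm (d + (c : F) ^ 2 * d') (c * c') := by
  apply Subtype.ext
  rw [Matrix.SpecialLinearGroup.coe_mul, coe_bm, coe_bm, coe_bm, mul_fin_two]
  have h := c.ne_zero
  have h' := c'.ne_zero
  ext i j
  fin_cases i <;> fin_cases j <;> simp <;> (field_simp; try ring)

theorem bm_one : bm (0 : F) 1 = 1 := by
  apply Subtype.ext
  rw [coe_bm, Matrix.SpecialLinearGroup.coe_one]
  ext i j
  fin_cases i <;> fin_cases j <;> simp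

theorem bm_inv (d : F) (c : Fˣ) : (bm d c)⁻¹ = bm (- ((c⁻¹ : Fˣ) : F) ^ 2 * d) c⁻¹ := by
  rw [inv_eq_iff_mul_eq_one, bm_mul, ← bm_one, mul_inv_cancel]
  congr 1
  have h := c.ne_zero
  simp

theorem fld_bm (σ : F ≃+* F) (d : F) (c : Fˣ) : fld σ (bm d c) = bm (σ d) (Units.map (σ : F →* F) c) := by
  apply Subtype.ext
  ext i j
  rw [coe_fld_apply, coe_bm, coe_bm]
  fin_cases i <;> fin_cases j <;> simp

theorem bm_pow (d : F) (n : ℕ) : (bm d 1) ^ n = bm ((n : F) * d) 1 := by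
  induction n with
  | zero => rw [pow_zero, Nat.cast_zero, zero_mul, bm_one]
  | succ n ih => rw [pow_succ, ih, bm_mul]; congr 1 <;> simp; ring

theorem eq_zero_of_pr_bm {d : F} (h : pr (bm d 1) = 1) : d = 0 := by
  rw [← map_one pr] at h
  obtain ⟨c, hc⟩ := exists_smul_of_pr_eq h.symm
  have h1 := congrFun (congrFun hc 0) 1
  rw [coe_bm] at h1
  simpa using h1

/-- moving an automorphism across an inner one -/
theorem mul_conj {G : Type*} [Group G] (s : MulAut G) (g : G) : s * MulAut.conj g = MulAut.conj (s g) * s := by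
  apply MulEquiv.ext
  intro x
  simp [MulAut.mul_apply]

theorem conj_mul_conj {G : Type*} [Group G] (s : MulAut G) (g : G) :
    MulAut.conj g * s * (MulAut.conj g)⁻¹ = MulAut.conj (g * (s g)⁻¹) * s := by
  rw [map_mul, map_inv, mul_assoc (MulAut.conj g) s, mul_assoc (MulAut.conj g)]
  congr 1
  rw [mul_inv_eq_iff_eq_mul, mul_assoc, mul_conj, inv_mul_cancel_left]

/-- the product of two conjugates -/
theorem pe_two {G : Type*} [Group G] {p : ℕ} {s : MulAut G} (h : PA p s) (g₁ g₂ : G) :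
    PE p (MulAut.conj (g₁ * (s g₁)⁻¹) * s * (MulAut.conj (g₂ * (s g₂)⁻¹) * s)) := by
  rw [← conj_mul_conj, ← conj_mul_conj]
  have h1 := (h (g₁⁻¹ * g₂)).conj (MulAut.conj g₁)
  convert h1 using 1
  rw [map_mul, map_inv]
  group

section Own

/-- a solution of `σ θ = θ + 1` in characteristic `p` for `σ` of order `p` -/
theorem exists_theta {p : ℕ} [hp : Fact p.Prime] [CharP F p] {σ : F ≃+* F} (hσ : orderOf σ = p) :
    ∃ θ : F, σ θ = θ + 1 := by
  have hσ1 : σ ≠ 1 := by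
    rintro rfl
    rw [orderOf_one] at hσ
    exact hp.out.one_lt.ne hσ
  have hch : CharP (AddMonoid.End F) p := by
    refine ⟨fun n => ?_⟩
    rw [← CharP.cast_eq_zero_iff F p n]
    constructor
    · intro h
      have h1 := DFunLike.congr_fun h (1 : F)
      rw [AddMonoid.End.natCast_apply] at h1
      simpa using h1
    · intro h
      ext x
      rw [AddMonoid.End.natCast_apply]
      simp [h]
  let S : AddMonoid.End F := (σ : F →+ F)
  have hS : ∀ n : ℕ, ∀ x, (S ^ n) x = (σ ^ n) x := by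
    intro n
    induction n with
    | zero => intro x; rfl
    | succ n ih =>
      intro x
      rw [pow_succ, pow_succ]
      change (S ^ n) (S x) = (σ ^ n) (σ x)
      rw [ih]
      rfl
  have hSp : (S - 1) ^ p = 0 := by
    rw [sub_pow_char_of_commute p (Commute.one_right S), one_pow, sub_eq_zero]
    ext x
    rw [hS, ← hσ, pow_orderOf_eq_one]
    rfl
  obtain ⟨z, hz⟩ : ∃ z, σ z ≠ z := by
    by_contra hcon
    push Not at hcon
    exact hσ1 (RingEquiv.ext hcon)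
  have hex : ∃ n : ℕ, ((S - 1) ^ n) z = 0 := ⟨p, by rw [hSp]; rfl⟩
  classical
  obtain ⟨n, hn, hmin⟩ : ∃ n : ℕ, ((S - 1) ^ n) z = 0 ∧ ∀ m < n, ((S - 1) ^ m) z ≠ 0 :=
    ⟨Nat.find hex, Nat.find_spec hex, fun m hm => Nat.find_min hex hm⟩
  have hstep : ∀ m : ℕ, ((S - 1) ^ (m + 1)) z = σ (((S - 1) ^ m) z) - ((S - 1) ^ m) z := by
    intro m
    rw [pow_succ']
    rfl
  -- `n ≥ 2`
  obtain ⟨m, rfl⟩ : ∃ m, n = m + 2 := by
    rcases n with _ | _ | m
    · exfalso
      rw [pow_zero] at hn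
      have h0 : z = 0 := hn
      rw [h0, map_zero] at hz
      exact hz rfl
    · exfalso
      rw [hstep, pow_zero] at hn
      have h0 : σ z - z = 0 := hn
      exact hz (sub_eq_zero.1 h0)
    · exact ⟨m, rfl⟩
  have h1 := hstep (m + 1)
  rw [hn] at h1
  have h2 := hstep m
  have hw : ((S - 1) ^ (m + 1)) z ≠ 0 := hmin _ (by omega)
  set w := ((S - 1) ^ (m + 1)) z with hwdef
  refine ⟨((S - 1) ^ m) z / w, ?_⟩
  have h3 : σ w = w := (sub_eq_zero.1 h1.symm)
  have h4 : σ (((S - 1) ^ m) z) = ((S - 1) ^ m) z + w := by rw [h2]; ring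
  rw [map_div₀, h3, h4, add_div, div_self hw]

theorem field_own {p : ℕ} [hp : Fact p.Prime] [CharP F p] (hp2 : p ≠ 2) {σ : F ≃+* F} (hσ : orderOf σ = p)
    (hP : PA p (lift (ι := Fin 2) (fld σ))) : False := by
  obtain ⟨θ, hθ⟩ := exists_theta hσ
  obtain ⟨g₂, hg₂⟩ : ∃ g : Matrix.SpecialLinearGroup (Fin 2) F,
      (g : Matrix (Fin 2) (Fin 2) F) = !![1, 0; -2 * θ, 1] := ⟨⟨_, by rw [det_fin_two_of]; ring⟩, rfl⟩
  obtain ⟨v, hv⟩ : ∃ g : Matrix.SpecialLinearGroup (Fin 2) F,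
      (g : Matrix (Fin 2) (Fin 2) F) = !![1, 0; 2, 1] := ⟨⟨_, by rw [det_fin_two_of]; ring⟩, rfl⟩
  obtain ⟨m, hm⟩ : ∃ g : Matrix.SpecialLinearGroup (Fin 2) F,
      (g : Matrix (Fin 2) (Fin 2) F) = !![-1, -1; 2, 1] := ⟨⟨_, by rw [det_fin_two_of]; ring⟩, rfl⟩
  have h1 := pe_two hP (pr (bm θ 1)) (pr g₂)
  have e1 : pr (bm θ 1) * (lift (fld σ) (pr (bm θ 1)))⁻¹ = pr (bm (-1) 1) := by
    rw [lift_pr, ← map_inv, ← map_mul, fld_bm, bm_inv, bm_mul, hθ]
    congr 2 <;> simp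
  have e2 : pr g₂ * (lift (fld σ) (pr g₂))⁻¹ = pr v := by
    rw [mul_inv_eq_iff_eq_mul, lift_pr, ← map_mul]
    congr 1
    apply Subtype.ext
    rw [Matrix.SpecialLinearGroup.coe_mul, hg₂, hv]
    ext i j
    fin_cases i <;> fin_cases j <;> simp [mul_apply, coe_fld_apply, hg₂, hθ, map_ofNat σ 2]
    ring
  have e3 : lift (fld σ) (pr v) = pr v := by
    rw [lift_pr]
    congr 1
    apply Subtype.ext
    ext i j
    rw [coe_fld_apply, hv]
    fin_cases i <;> fin_cases j <;> simp [map_ofNat σ 2]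
  have e5 : lift (fld σ) (pr m) = pr m := by
    rw [lift_pr]
    congr 1
    apply Subtype.ext
    ext i j
    rw [coe_fld_apply, hm]
    fin_cases i <;> fin_cases j <;> simp [map_ofNat σ 2]
  have e4 : pr (bm (-1) 1) * pr v = pr m := by
    rw [← map_mul]
    congr 1
    apply Subtype.ext
    rw [Matrix.SpecialLinearGroup.coe_mul, coe_bm, hv, hm]
    ext i j
    fin_cases i <;> fin_cases j <;> simp [mul_apply] <;> norm_num
  rw [e1, e2] at h1
  have h2 : MulAut.conj (pr (bm (-1) 1)) * lift (fld σ) * (MulAut.conj (pr v) * lift (fld σ)) =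
      MulAut.conj (pr m) * (lift (fld σ)) ^ 2 := by
    rw [mul_assoc, ← mul_assoc (lift (fld σ)), mul_conj, e3, ← e4, map_mul, pow_two]
    simp only [mul_assoc]
  rw [h2, PE.pow_eq_one_iff] at h1
  obtain ⟨k, hk⟩ := h1
  have hcomm : Commute (MulAut.conj (pr m)) (lift (fld σ)) := by
    have h3 := mul_conj (lift (fld σ)) (pr m)
    rw [e5] at h3
    exact h3.symm
  have h3 : (MulAut.conj (pr m)) ^ (p ^ (k + 1)) = 1 := by
    have h4 : (MulAut.conj (pr m) * (lift (fld σ)) ^ 2) ^ (p ^ (k + 1)) = 1 := by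
      rw [pow_succ p k, pow_mul, hk, one_pow]
    have h5 : (lift (ι := Fin 2) (fld σ)) ^ (2 * p ^ (k + 1)) = 1 := by
      rw [pow_succ, ← mul_assoc, mul_comm, pow_mul, ← map_pow lift, ← map_pow fld, ← hσ, pow_orderOf_eq_one, map_one,
        map_one, one_pow]
    rw [(hcomm.pow_right 2).mul_pow, ← pow_mul, h5, mul_one] at h4
    exact h4
  have hmm : m * m = -1 := by
    apply Subtype.ext
    rw [Matrix.SpecialLinearGroup.coe_mul, hm, Matrix.SpecialLinearGroup.coe_neg, Matrix.SpecialLinearGroup.coe_one]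
    ext i j
    fin_cases i <;> fin_cases j <;> simp [mul_apply] <;> norm_num
  have h4 : pr m ^ 2 = 1 := by
    rw [pow_two, ← map_mul, hmm, ← map_one pr]
    refine (pr_eq_of_smul (c := -1) ?_).symm
    rw [Matrix.SpecialLinearGroup.coe_neg, Matrix.SpecialLinearGroup.coe_one, neg_smul, one_smul]
  have h5 : (MulAut.conj (pr m)) ^ 2 = 1 := by rw [← map_pow, h4, map_one]
  have h6 : MulAut.conj (pr m) = 1 := by
    obtain ⟨j, hj⟩ := (hp.out.odd_of_ne_two hp2).pow (n := k + 1)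
    rw [hj, pow_succ, pow_mul, h5, one_pow, one_mul] at h3
    exact h3
  have h7 := pr_eq_one_of_conj h6
  rw [← map_one pr] at h7
  obtain ⟨c, hc⟩ := exists_smul_of_pr_eq h7.symm
  have h8 := congrFun (congrFun hc 0) 1
  rw [hm] at h8
  simp at h8

end Own

section Cross

/-- the sum `∑_{i<n} τ^i z` -/
def tsum (τ : F ≃+* F) (n : ℕ) (z : F) : F := ∑ i ∈ Finset.range n, (τ ^ i) z

theorem tsum_sub (τ : F ≃+* F) (n : ℕ) (y z : F) : tsum τ n (y - z) = tsum τ n y - tsum τ n z := by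
  unfold tsum
  rw [← Finset.sum_sub_distrib]
  exact Finset.sum_congr rfl fun i _ => map_sub _ _ _

theorem tsum_one (τ : F ≃+* F) (n : ℕ) : tsum τ n 1 = n := by
  unfold tsum
  simp

theorem tsum_shift {τ : F ≃+* F} {n : ℕ} (h : τ ^ n = 1) (z : F) : tsum τ n (τ z) = tsum τ n z := by
  unfold tsum
  have h1 : ∑ i ∈ Finset.range n, (τ ^ i) (τ z) = ∑ i ∈ Finset.range n, (τ ^ (i + 1)) z :=
    Finset.sum_congr rfl fun i _ => by rw [pow_succ]; rfl
  rw [h1]
  have h2 := Finset.sum_range_succ' (fun i => (τ ^ i) z) n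
  have h3 := Finset.sum_range_succ (fun i => (τ ^ i) z) n
  rw [h2] at h3
  simp only [pow_zero] at h3
  rw [h] at h3
  exact add_right_cancel h3

theorem tsum_shift_pow {τ : F ≃+* F} {n : ℕ} (h : τ ^ n = 1) (m : ℕ) (z : F) :
    tsum τ n ((τ ^ m) z) = tsum τ n z := by
  induction m with
  | zero => rfl
  | succ m ih =>
    rw [pow_succ']
    change tsum τ n (τ ((τ ^ m) z)) = _
    rw [tsum_shift h, ih]

theorem fld_pow_bm (τ : F ≃+* F) (d : F) (e : Fˣ) (n : ℕ) :
    (MulAut.conj (pr (bm d (e * (Units.map (τ : F →* F) e)⁻¹))) * lift (ι := Fin 2) (fld τ)) ^ n =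
      MulAut.conj (pr (bm ((e : F) ^ 2 * tsum τ n (d / (e : F) ^ 2)) (e * (Units.map ((τ ^ n : F ≃+* F) : F →* F) e)⁻¹))) *
        lift (fld (τ ^ n)) := by
  induction n with
  | zero =>
    have h1 : (Units.map ((τ ^ 0 : F ≃+* F) : F →* F) e) = e := by
      apply Units.ext; rfl
    rw [pow_zero, h1, mul_inv_cancel]
    unfold tsum
    rw [Finset.range_zero, Finset.sum_empty, mul_zero, bm_one, pow_zero, map_one, map_one, map_one, map_one, mul_one]
  | succ n ih =>
    rw [pow_succ, ih, mul_assoc, ← mul_assoc (lift (fld (τ ^ n))), mul_conj, lift_pr, mul_assoc, ← map_mul lift,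
      ← map_mul fld, ← pow_succ, ← mul_assoc, ← map_mul, ← map_mul, fld_bm, bm_mul]
    congr 4
    · have he := e.ne_zero
      have hne : (τ ^ n) (e : F) ≠ 0 := (map_ne_zero_iff _ (τ ^ n).injective).2 he
      unfold tsum
      rw [Finset.sum_range_succ]
      simp
      field_simp
      try ring
    · apply Units.ext
      have he := e.ne_zero
      have hne : (τ ^ n) (e : F) ≠ 0 := (map_ne_zero_iff _ (τ ^ n).injective).2 he
      simp [pow_succ]

theorem field_cross {p : ℕ} [hp : Fact p.Prime] (hpF : (p : F) ≠ 0) (hp2 : p ≠ 2) {σ : F ≃+* F} (hσ : orderOf σ = p)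
    (hP : PA p (lift (ι := Fin 2) (fld σ))) : False := by
  have hσp : σ ^ p = 1 := by rw [← hσ, pow_orderOf_eq_one]
  have hσ1 : σ ≠ 1 := by
    rintro rfl
    rw [orderOf_one] at hσ
    exact hp.out.one_lt.ne hσ
  -- `a` with `σ(a²) ≠ a²`
  obtain ⟨a, ha⟩ : ∃ a : Fˣ, σ ((a : F) ^ 2) ≠ (a : F) ^ 2 := by
    obtain ⟨z, hz⟩ : ∃ z, σ z ≠ z := by
      by_contra hcon
      push Not at hcon
      exact hσ1 (RingEquiv.ext hcon)
    have hz0 : z ≠ 0 := by rintro rfl; exact hz (map_zero σ)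
    have hz1 : z + 1 ≠ 0 := by
      intro h
      have h1 : z = -1 := by linear_combination h
      rw [h1, map_neg, map_one] at hz
      exact hz rfl
    by_contra hcon
    push Not at hcon
    have h1 := hcon (Units.mk0 z hz0)
    have h2 := hcon (Units.mk0 (z + 1) hz1)
    simp only [Units.val_mk0, map_pow, map_add, map_one] at h1 h2
    have h3 : (σ z - z) * (σ z + z) = 0 := by linear_combination h1
    have h4 : σ z + z = 0 := (mul_eq_zero.1 h3).resolve_left (sub_ne_zero.2 hz)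
    have h5 : (2 : F) * (σ z - z) = 0 := by linear_combination h2 - h1
    rcases mul_eq_zero.1 h5 with h6 | h6
    · exact hz (by linear_combination h4 - z * h6)
    · exact hz (sub_eq_zero.1 h6)
  obtain ⟨m, hm⟩ : ∃ m, p = 2 * m + 1 := (hp.out.odd_of_ne_two hp2)
  obtain ⟨τ, hτ⟩ : ∃ τ : F ≃+* F, τ = σ ^ 2 := ⟨_, rfl⟩
  have hτp : τ ^ p = 1 := by rw [hτ, ← pow_mul, mul_comm, pow_mul, hσp, one_pow]
  have hτm : τ ^ (m + 1) = σ := by
    rw [hτ, ← pow_mul, show 2 * (m + 1) = p + 1 by omega, pow_succ, hσp, one_mul]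
  -- `e`
  obtain ⟨c, hc⟩ : ∃ c : Fˣ, c = Units.map (σ : F →* F) a * (Units.map ((σ ^ 2 : F ≃+* F) : F →* F) a)⁻¹ := ⟨_, rfl⟩
  obtain ⟨e, he⟩ : ∃ e : Fˣ, c = e * (Units.map (τ : F →* F) e)⁻¹ := by
    refine ⟨∏ i ∈ Finset.range (m + 1), Units.map ((τ ^ i : F ≃+* F) : F →* F) (Units.map (σ : F →* F) a), ?_⟩
    have h1 : Units.map (τ : F →* F) (∏ i ∈ Finset.range (m + 1),
        Units.map ((τ ^ i : F ≃+* F) : F →* F) (Units.map (σ : F →* F) a)) =
        ∏ i ∈ Finset.range (m + 1),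
        Units.map ((τ ^ (i + 1) : F ≃+* F) : F →* F) (Units.map (σ : F →* F) a) := by
      rw [map_prod]
      refine Finset.prod_congr rfl fun i _ => ?_
      apply Units.ext
      rw [pow_succ']
      rfl
    rw [h1]
    have h2 := Finset.prod_range_succ' (fun i => Units.map ((τ ^ i : F ≃+* F) : F →* F) (Units.map (σ : F →* F) a)) (m + 1)
    have h3 := Finset.prod_range_succ (fun i => Units.map ((τ ^ i : F ≃+* F) : F →* F) (Units.map (σ : F →* F) a)) (m + 1)
    rw [h2] at h3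
    rw [hc, eq_mul_inv_iff_mul_eq, mul_assoc, mul_comm _ (∏ i ∈ Finset.range (m + 1), _), ← mul_assoc,
      mul_comm (Units.map (σ : F →* F) a), mul_inv_eq_iff_eq_mul]
    have h4 : Units.map ((τ ^ 0 : F ≃+* F) : F →* F) (Units.map (σ : F →* F) a) = Units.map (σ : F →* F) a := by
      apply Units.ext; rfl
    have h5 : Units.map ((τ ^ (m + 1) : F ≃+* F) : F →* F) (Units.map (σ : F →* F) a) =
        Units.map ((σ ^ 2 : F ≃+* F) : F →* F) a := by
      apply Units.ext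
      rw [hτm]
      rfl
    rw [h4, h5] at h3
    exact h3
  -- `e² ≠ σ(e²)`
  have hne : ((e : F) ^ 2)⁻¹ - (σ (e : F) ^ 2)⁻¹ ≠ 0 := by
    intro h
    have h1 : σ (e : F) ^ 2 = (e : F) ^ 2 := by
      have h2 := sub_eq_zero.1 h
      exact (inv_injective h2).symm
    have h2 : τ (e : F) ^ 2 = (e : F) ^ 2 := by
      have h3 : τ (e : F) = σ (σ (e : F)) := by rw [hτ, pow_two]; rfl
      rw [h3, ← map_pow, h1, map_pow, h1]
    have h3 : (c : F) ^ 2 = 1 := by
      rw [he, Units.val_mul, Units.val_inv_eq_inv_val, mul_pow, inv_pow]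
      change (e : F) ^ 2 * (τ (e : F) ^ 2)⁻¹ = 1
      rw [h2]
      exact mul_inv_cancel₀ (pow_ne_zero _ e.ne_zero)
    apply ha
    have h4 : σ (a : F) ^ 2 = σ (σ (a : F)) ^ 2 := by
      rw [hc] at h3
      have h5 : σ (σ (a : F)) ≠ 0 := by
        rw [map_ne_zero_iff _ σ.injective, map_ne_zero_iff _ σ.injective]
        exact a.ne_zero
      have h6 : (Units.map (σ : F →* F) a : F) = σ (a : F) := rfl
      have h7 : ((Units.map ((σ ^ 2 : F ≃+* F) : F →* F) a : Fˣ) : F) = σ (σ (a : F)) := by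
        rw [pow_two]; rfl
      rw [Units.val_mul, Units.val_inv_eq_inv_val, h6, h7, mul_pow, inv_pow] at h3
      field_simp at h3
      exact h3
    rw [map_pow]
    apply σ.injective
    rw [map_pow, map_pow]
    exact h4.symm
  obtain ⟨b, hb⟩ : ∃ b : F, b = (((e : F) ^ 2)⁻¹ - (σ (e : F) ^ 2)⁻¹)⁻¹ := ⟨_, rfl⟩
  obtain ⟨β, hβ⟩ : ∃ β : F, σ β = b := ⟨σ.symm b, σ.apply_symm_apply b⟩
  obtain ⟨d, hd⟩ : ∃ d : F, d = b - (c : F) ^ 2 * σ b := ⟨_, rfl⟩
  -- the product of `σ` and its conjugate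
  have h1 := hP (pr (bm β a))
  rw [conj_mul_conj, ← mul_assoc, mul_conj, mul_assoc (MulAut.conj _)] at h1
  have h2 : lift (fld σ) (pr (bm β a) * (lift (fld σ) (pr (bm β a)))⁻¹) = pr (bm d c) := by
    rw [lift_pr, ← map_inv, ← map_mul, lift_pr, map_mul, map_inv, fld_bm, fld_bm, bm_inv, bm_mul]
    congr 2
    · rw [hd, hc, hβ, Units.val_mul, mul_pow]
      have h3 : Units.map (σ : F →* F) (Units.map (σ : F →* F) a) = Units.map ((σ ^ 2 : F ≃+* F) : F →* F) a := by
        apply Units.ext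
        rw [pow_two]
        rfl
      rw [h3]
      ring
    · rw [hc]
      rfl
  have h3 : lift (ι := Fin 2) (fld σ) * lift (fld σ) = lift (fld τ) := by
    rw [hτ, pow_two, map_mul, map_mul]
  rw [h2, h3, he] at h1
  obtain ⟨k, hk⟩ := PE.pow_eq_one_iff.1 h1
  have h4 := fld_pow_bm τ d e p
  have h5 : (Units.map ((τ ^ p : F ≃+* F) : F →* F) e) = e := by
    apply Units.ext
    rw [hτp]
    rfl
  rw [h5, mul_inv_cancel, hτp, map_one, map_one, mul_one] at h4
  have h6 : MulAut.conj (pr (bm ((p ^ k : ℕ) * ((e : F) ^ 2 * tsum τ p (d / (e : F) ^ 2))) 1)) = 1 := by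
    rw [← bm_pow, map_pow, map_pow, ← h4, ← pow_mul, mul_comm p, pow_mul, hk, one_pow]
  have h7 := eq_zero_of_pr_bm (pr_eq_one_of_conj h6)
  -- the sum
  have h8 : tsum τ p (d / (e : F) ^ 2) = p := by
    have e0 := e.ne_zero
    have e1 : σ (e : F) ≠ 0 := (map_ne_zero_iff _ σ.injective).2 e0
    have e2 : σ (σ (e : F)) ≠ 0 := (map_ne_zero_iff _ σ.injective).2 e1
    have hcc : (c : F) ^ 2 = (e : F) ^ 2 * (σ (σ (e : F)) ^ 2)⁻¹ := by
      rw [he, Units.val_mul, Units.val_inv_eq_inv_val, mul_pow, inv_pow]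
      have h10 : ((Units.map (τ : F →* F) e : Fˣ) : F) = σ (σ (e : F)) := by
        rw [hτ, pow_two]
        rfl
      rw [h10]
    have h9 : d / (e : F) ^ 2 = b * ((e : F) ^ 2)⁻¹ - (τ ^ (m + 1)) (b * (σ (e : F) ^ 2)⁻¹) := by
      rw [hτm, hd, hcc, map_mul, map_inv₀, map_pow]
      field_simp
    rw [h9, tsum_sub, tsum_shift_pow hτp, ← tsum_sub, ← mul_sub, hb, inv_mul_cancel₀ hne, tsum_one]
  rw [h8] at h7
  have h9 : ((p ^ k : ℕ) : F) ≠ 0 := by rw [Nat.cast_pow]; exact pow_ne_zero _ hpF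
  exact mul_ne_zero h9 (mul_ne_zero (pow_ne_zero _ e.ne_zero) hpF) h7

end Cross

/-- **Field automorphisms.** -/
theorem field_core {p : ℕ} [hp : Fact p.Prime] (hp2 : p ≠ 2) {σ : F ≃+* F} (hσ : orderOf σ = p)
    (hP : PA p (lift (ι := Fin 2) (fld σ))) : False := by
  by_cases hpF : (p : F) = 0
  · have hch : CharP F p := by
      obtain ⟨ℓ, hℓ⟩ := CharP.exists F
      have h1 : ℓ ∣ p := (CharP.cast_eq_zero_iff F ℓ p).1 hpF
      rcases (Nat.dvd_prime hp.out).1 h1 with h2 | h2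
      · subst h2
        have h3 : ((1 : ℕ) : F) = 0 := CharP.cast_eq_zero F 1
        rw [Nat.cast_one] at h3
        exact absurd h3 one_ne_zero
      · exact h2 ▸ hℓ
    exact field_own hp2 hσ hP
  · exact field_cross hpF hp2 hσ hP

end Cfsg.Agent.H654.AAField
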