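import Mathlib
import Cfsg.Agent.H460.AADef
import Cfsg.Agent.H169.PSLTwoAut

/-!
# The `AA` core for `PSL₂(F)`: inner automorphisms (helper654, task 571 for S3833, S3834, S3840)

`inner_core` : if `k ∈ PSL₂(F)`, `|F| ≥ 4`, has odd prime order `p` then some product `k * g k g⁻¹` is not a `p`-element.
-/

set_option autoImplicit false

namespace Cfsg.Agent.H654.AAInner

open Matrix
open Cfsg.Agent.ClassicalGeometry.AutPSL.Root
open Cfsg.Agent.H460.AA

variable {F : Type*} [Field F]

theorem exists_sl (M : Matrix (Fin 2) (Fin 2) F) (h : M.det = 1) :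
    ∃ X : Matrix.SpecialLinearGroup (Fin 2) F, (X : Matrix (Fin 2) (Fin 2) F) = M := ⟨⟨M, h⟩, rfl⟩

theorem pr_eq_one_of_scalar {A : Matrix.SpecialLinearGroup (Fin 2) F} {a : F}
    (h : (A : Matrix (Fin 2) (Fin 2) F) = !![a, 0; 0, a]) : pr A = 1 := by
  rw [← map_one pr]
  refine (pr_eq_of_smul (c := a) ?_).symm
  rw [h, Matrix.SpecialLinearGroup.coe_one]
  ext i j
  fin_cases i <;> fin_cases j <;> simp

/-- The trace of `A * (X A X⁻¹)` takes all values `t² - 2 - ρ²`. -/
theorem exists_trace (A : Matrix.SpecialLinearGroup (Fin 2) F)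
    (hA : pr A ≠ 1) (ρ : F) : ∃ X : Matrix.SpecialLinearGroup (Fin 2) F,
    ((A * (X * A * X⁻¹) : Matrix.SpecialLinearGroup (Fin 2) F) : Matrix (Fin 2) (Fin 2) F).trace =
      (A : Matrix (Fin 2) (Fin 2) F).trace ^ 2 - 2 - ρ ^ 2 := by
  obtain ⟨a, b, c, d, hM⟩ : ∃ a b c d : F, (A : Matrix (Fin 2) (Fin 2) F) = !![a, b; c, d] :=
    ⟨_, _, _, _, Matrix.eta_fin_two _⟩
  have hdet : a * d - b * c = 1 := by
    have h := A.2
    rw [hM, det_fin_two_of] at h
    exact h
  have key : ∀ v w r : F, r * (v * (c * v + d * w) - w * (a * v + b * w)) = ρ →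
      ∃ X : Matrix.SpecialLinearGroup (Fin 2) F,
      ((A * (X * A * X⁻¹) : Matrix.SpecialLinearGroup (Fin 2) F) : Matrix (Fin 2) (Fin 2) F).trace =
      (A : Matrix (Fin 2) (Fin 2) F).trace ^ 2 - 2 - ρ ^ 2 := by
    intro v w r hr
    obtain ⟨X, hX⟩ := exists_sl !![1 - r * v * w, r * v ^ 2; - r * w ^ 2, 1 + r * v * w]
      (by rw [det_fin_two_of]; ring)
    refine ⟨X, ?_⟩
    rw [Matrix.SpecialLinearGroup.coe_mul, Matrix.SpecialLinearGroup.coe_mul, Matrix.SpecialLinearGroup.coe_mul,
      Matrix.SpecialLinearGroup.coe_inv, hM, hX]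
    simp only [adjugate_fin_two_of, mul_fin_two, trace_fin_two_of]
    rw [← hr]
    linear_combination (-2 * (1 : F)) * hdet
  by_cases hc : c = 0
  · by_cases hb : b = 0
    · have hda : d - a ≠ 0 := by
        intro h
        apply hA
        apply pr_eq_one_of_scalar (a := a)
        rw [hM, hb, hc, show d = a by linear_combination h]
      refine key 1 1 (ρ / (d - a)) ?_
      rw [hb, hc]
      field_simp
      ring
    · refine key 0 1 (- ρ / b) ?_
      field_simp
      ring
  · refine key 1 0 (ρ / c) ?_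
    field_simp
    ring

/-- a `p`-element of `PSL₂`: some `p`-power of the matrix is a scalar `±1` -/
theorem exists_pow_eq {p : ℕ} [Fact p.Prime] {N : Matrix.SpecialLinearGroup (Fin 2) F} (h : PE p (pr N)) :
    ∃ k : ℕ, ∃ c : F, c ^ 2 = 1 ∧ (N : Matrix (Fin 2) (Fin 2) F) ^ (p ^ k) = scalar (Fin 2) c := by
  obtain ⟨k, hk⟩ := PE.pow_eq_one_iff.1 h
  rw [← map_pow, pr_eq_one_iff, Matrix.SpecialLinearGroup.mem_center_iff] at hk
  obtain ⟨c, hc, hc'⟩ := hk
  exact ⟨k, c, by simpa using hc, by rw [hc', Matrix.SpecialLinearGroup.coe_pow]⟩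

/-- Cayley-Hamilton for `SL₂` -/
theorem sq_eq (N : Matrix.SpecialLinearGroup (Fin 2) F) :
    (N : Matrix (Fin 2) (Fin 2) F) * N =
      (N : Matrix (Fin 2) (Fin 2) F).trace • (N : Matrix (Fin 2) (Fin 2) F) - 1 := by
  obtain ⟨a, b, c, d, hM⟩ : ∃ a b c d : F, (N : Matrix (Fin 2) (Fin 2) F) = !![a, b; c, d] :=
    ⟨_, _, _, _, Matrix.eta_fin_two _⟩
  have hdet : a * d - b * c = 1 := by
    have h := N.2
    rw [hM, det_fin_two_of] at h
    exact h
  rw [hM, mul_fin_two, trace_fin_two_of]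
  ext i j
  fin_cases i <;> fin_cases j <;> simp <;> first | ring1 | linear_combination (-1 : F) * hdet

theorem det_sub (N : Matrix.SpecialLinearGroup (Fin 2) F) (x : F) :
    ((N : Matrix (Fin 2) (Fin 2) F) - scalar (Fin 2) x).det =
      x ^ 2 - (N : Matrix (Fin 2) (Fin 2) F).trace * x + 1 := by
  obtain ⟨a, b, c, d, hM⟩ : ∃ a b c d : F, (N : Matrix (Fin 2) (Fin 2) F) = !![a, b; c, d] :=
    ⟨_, _, _, _, Matrix.eta_fin_two _⟩
  have hdet : a * d - b * c = 1 := by
    have h := N.2
    rw [hM, det_fin_two_of] at h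
    exact h
  rw [hM, trace_fin_two_of, det_fin_two]
  simp [scalar_apply]
  linear_combination (1 : F) * hdet

/-- characteristic `p` -/
theorem trace_of_pe_char {p : ℕ} [Fact p.Prime] [CharP F p] (hp2 : p ≠ 2)
    {N : Matrix.SpecialLinearGroup (Fin 2) F} (h : PE p (pr N)) :
    (N : Matrix (Fin 2) (Fin 2) F).trace = 2 ∨ (N : Matrix (Fin 2) (Fin 2) F).trace = -2 := by
  obtain ⟨k, c, hc, hN⟩ := exists_pow_eq h
  have hp : p.Prime := Fact.out
  have hodd : Odd (p ^ k) := (hp.odd_of_ne_two hp2).pow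
  have hck : c ^ (p ^ k) = c := by
    obtain ⟨m, hm⟩ := hodd
    rw [hm, pow_succ, pow_mul, hc, one_pow, one_mul]
  have h1 : ((N : Matrix (Fin 2) (Fin 2) F) - scalar (Fin 2) c) ^ (p ^ k) = 0 := by
    rw [sub_pow_char_pow_of_commute (p := p) _ (Matrix.scalar_commute c (fun _ => mul_comm _ _) _).symm, hN, ← map_pow,
      hck, sub_self]
  have h2 : ((N : Matrix (Fin 2) (Fin 2) F) - scalar (Fin 2) c).det = 0 := by
    have h3 := congrArg Matrix.det h1
    rw [det_pow, det_zero] at h3
    exact pow_eq_zero_iff (pow_ne_zero _ hp.ne_zero) |>.1 h3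
  rw [det_sub] at h2
  have hc' : (c - 1) * (c + 1) = 0 := by linear_combination hc
  rcases mul_eq_zero.1 hc' with h3 | h3
  · left
    have h4 : c = 1 := by linear_combination h3
    rw [h4] at h2
    linear_combination -h2
  · right
    have h4 : c = -1 := by linear_combination h3
    rw [h4] at h2
    linear_combination h2

/-- odd characteristic different from `p`: trace `-2` -/
theorem eq_of_trace_neg_two {p : ℕ} [Fact p.Prime] (hpF : (p : F) ≠ 0)
    {N : Matrix.SpecialLinearGroup (Fin 2) F} (h : PE p (pr N))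
    (ht : (N : Matrix (Fin 2) (Fin 2) F).trace = -2) : (N : Matrix (Fin 2) (Fin 2) F) = -1 := by
  obtain ⟨k, c, hc, hN⟩ := exists_pow_eq h
  obtain ⟨M, hM⟩ : ∃ M : Matrix (Fin 2) (Fin 2) F, M = N := ⟨_, rfl⟩
  have h1 : (M + 1) * (M + 1) = 0 := by
    have h0 := sq_eq N
    rw [← hM] at h0 ht
    rw [mul_add, add_mul, h0, ht, mul_one, one_mul]
    ext i j
    simp
    ring
  rw [← hM] at hN ⊢
  have hpow : ∀ n : ℕ, M ^ n = ((-1 : F) ^ n) • (1 - (n : F) • (M + 1)) := by
    intro n
    induction n with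
    | zero => simp
    | succ n ih =>
      rw [pow_succ, ih]
      have h3 : M = (M + 1) - 1 := by simp
      obtain ⟨E, hE⟩ : ∃ E, E = M + 1 := ⟨_, rfl⟩
      rw [← hE] at h1 h3 ⊢
      rw [h3]
      have h7 : (1 - (n : F) • E) * (E - 1) = - (1 - ((n + 1 : ℕ) : F) • E) := by
        rw [sub_mul, one_mul, smul_mul_assoc, mul_sub, mul_one, h1, zero_sub, smul_neg, Nat.cast_succ, add_smul,
          one_smul]
        abel
      rw [smul_mul_assoc, h7, pow_succ, mul_smul, neg_smul, one_smul]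
  have h4 := hpow (p ^ k)
  have hpk : ((p ^ k : ℕ) : F) ≠ 0 := by
    rw [Nat.cast_pow]; exact pow_ne_zero _ hpF
  rw [hN] at h4
  set n := p ^ k with hn
  have hs : (-1 : F) ^ n * (-1 : F) ^ n = 1 := by
    rw [← mul_pow]; simp
  have h5 : (n : F) • (M + 1) = (1 - (-1 : F) ^ n * c) • (1 : Matrix (Fin 2) (Fin 2) F) := by
    have h6 : (-1 : F) ^ n • scalar (Fin 2) c = 1 - (n : F) • (M + 1) := by
      rw [h4, smul_smul, hs, one_smul]
    rw [sub_smul, one_smul, mul_smul, smul_one_eq_diagonal, ← scalar_apply, h6]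
    abel
  obtain ⟨x, hx⟩ : ∃ x : F, M + 1 = x • (1 : Matrix (Fin 2) (Fin 2) F) := by
    refine ⟨(n : F)⁻¹ * (1 - (-1 : F) ^ n * c), ?_⟩
    rw [mul_smul, ← h5, smul_smul, inv_mul_cancel₀ hpk, one_smul]
  rw [hx, smul_mul_assoc, one_mul, smul_smul] at h1
  have h6 := congrFun (congrFun h1 0) 0
  simp at h6
  rw [h6, zero_smul] at hx
  exact eq_neg_of_add_eq_zero_left hx

/-- eigenvectors -/
theorem pow_of_root {p : ℕ} [Fact p.Prime] {N : Matrix.SpecialLinearGroup (Fin 2) F} (h : PE p (pr N)) {x : F}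
    (hx : x ^ 2 - (N : Matrix (Fin 2) (Fin 2) F).trace * x + 1 = 0) : ∃ k : ℕ, (x ^ 2) ^ (p ^ k) = 1 := by
  obtain ⟨k, c, hc, hN⟩ := exists_pow_eq h
  rw [← det_sub] at hx
  obtain ⟨v, hv, hv'⟩ := Matrix.exists_mulVec_eq_zero_iff.2 hx
  have h1 : (N : Matrix (Fin 2) (Fin 2) F) *ᵥ v = x • v := by
    rw [sub_mulVec, sub_eq_zero] at hv'
    rw [hv']
    ext i
    simp [scalar_apply, mulVec_diagonal]
  have h2 : ∀ n : ℕ, ((N : Matrix (Fin 2) (Fin 2) F) ^ n) *ᵥ v = x ^ n • v := by
    intro n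
    induction n with
    | zero => simp
    | succ n ih => rw [pow_succ, ← mulVec_mulVec, h1, mulVec_smul, ih, smul_smul, pow_succ, mul_comm]
  have h3 := h2 (p ^ k)
  rw [hN] at h3
  obtain ⟨i, hi⟩ : ∃ i, v i ≠ 0 := by
    by_contra hcon
    push Not at hcon
    exact hv (funext hcon)
  have h4 := congrFun h3 i
  simp [scalar_apply, mulVec_diagonal] at h4
  have h5 : c = x ^ p ^ k := by
    rcases h4 with h4 | h4
    · exact h4
    · exact absurd h4 hi
  refine ⟨k, ?_⟩
  rw [← pow_mul, mul_comm 2, pow_mul, ← h5, hc]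

section Fin

variable [Fintype F]

/-- a matrix with `N ^ (q - 1) = 1` has an eigenvalue in `F` -/
theorem exists_root_of_pow (N : Matrix (Fin 2) (Fin 2) F) (h : N ^ Fintype.card F = N) :
    ∃ a : F, (N - scalar (Fin 2) a).det = 0 := by
  classical
  have h1 : (∏ a : F, (Polynomial.X - Polynomial.C a)) =
      (Polynomial.X ^ Fintype.card F - Polynomial.X : Polynomial F) := by
    have hmon : (Polynomial.X ^ Fintype.card F - Polynomial.X : Polynomial F).Monic :=
      Polynomial.monic_X_pow_sub (by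
        rw [Polynomial.degree_X]
        exact_mod_cast Fintype.one_lt_card)
    have h2 := Polynomial.prod_multiset_X_sub_C_of_monic_of_roots_card_eq hmon (by
      rw [FiniteField.roots_X_pow_card_sub_X,
        FiniteField.X_pow_card_sub_X_natDegree_eq F Fintype.one_lt_card]
      rfl)
    rw [FiniteField.roots_X_pow_card_sub_X] at h2
    exact h2
  let D : Polynomial F →* F := (Matrix.detMonoidHom (n := Fin 2) (R := F)).comp
    ((Polynomial.aeval N).toRingHom.toMonoidHom)
  have h3 : D (Polynomial.X ^ Fintype.card F - Polynomial.X) = 0 := by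
    change (Polynomial.aeval N (Polynomial.X ^ Fintype.card F - Polynomial.X)).det = 0
    rw [map_sub, map_pow, Polynomial.aeval_X, h, sub_self, det_zero]
  rw [← h1, map_prod, Finset.prod_eq_zero_iff] at h3
  obtain ⟨a, -, ha⟩ := h3
  refine ⟨a, ?_⟩
  have h4 : (Polynomial.aeval N (Polynomial.X - Polynomial.C a)).det = 0 := ha
  rw [map_sub, Polynomial.aeval_X, Polynomial.aeval_C] at h4
  exact h4

theorem exists_not_sum : ∃ s : F, ∀ a : F, a ≠ 0 → s ≠ a + a⁻¹ := by
  by_contra hcon
  push Not at hcon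
  have h1 : Function.Surjective (fun a : Fˣ => (a : F) + ((a⁻¹ : Fˣ) : F)) := by
    intro s
    obtain ⟨a, ha, h⟩ := hcon s
    exact ⟨Units.mk0 a ha, by simp [h]⟩
  have h2 := Nat.card_le_card_of_surjective _ h1
  classical
  rw [Nat.card_eq_fintype_card, Nat.card_eq_fintype_card, Fintype.card_units] at h2
  have := Fintype.card_pos (α := F)
  omega

/-- **Inner automorphisms.** -/
theorem inner_core (h4 : 4 ≤ Fintype.card F) {p : ℕ} [hp : Fact p.Prime] (hp2 : p ≠ 2)
    {k : Matrix.ProjectiveSpecialLinearGroup (Fin 2) F} (hk : orderOf k = p)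
    (hP : ∀ g : Matrix.ProjectiveSpecialLinearGroup (Fin 2) F, PE p (k * (g * k * g⁻¹))) : False := by
  obtain ⟨A, rfl⟩ := pr_surjective k
  have hA : pr A ≠ 1 := by
    intro h
    rw [h, orderOf_one] at hk
    exact hp.out.one_lt.ne hk
  set t := (A : Matrix (Fin 2) (Fin 2) F).trace with ht
  have key : ∀ ρ : F, ∃ X : Matrix.SpecialLinearGroup (Fin 2) F, PE p (pr (A * (X * A * X⁻¹))) ∧
      ((A * (X * A * X⁻¹) : Matrix.SpecialLinearGroup (Fin 2) F) : Matrix (Fin 2) (Fin 2) F).trace = t ^ 2 - 2 - ρ ^ 2 := by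
    intro ρ
    obtain ⟨X, hX⟩ := exists_trace A hA ρ
    refine ⟨X, ?_, hX⟩
    have := hP (pr X)
    rwa [← map_inv, ← map_mul, ← map_mul, ← map_mul] at this
  obtain ⟨ℓ, hℓ⟩ := CharP.exists F
  have hℓp : ℓ.Prime := CharP.char_is_prime F ℓ
  have : Fact ℓ.Prime := ⟨hℓp⟩
  obtain ⟨n, hn⟩ := FiniteField.card F ℓ
  obtain ⟨-, hn⟩ := hn
  by_cases hpl : ℓ = p
  · -- defining characteristic
    subst hpl
    classical
    -- some `ρ` with `ρ² ≠ t² - 4`, `ρ² ≠ t²`
    obtain ⟨ρ, h1, h2⟩ : ∃ ρ : F, ρ ^ 2 ≠ t ^ 2 - 4 ∧ ρ ^ 2 ≠ t ^ 2 := by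
      by_contra hcon
      push Not at hcon
      have hodd : Odd (Fintype.card F) := by
        rw [hn]; exact (hℓp.odd_of_ne_two hp2).pow
      have h5 : 5 ≤ Fintype.card F := by
        obtain ⟨m, hm⟩ := hodd
        omega
      let P : Polynomial F := (Polynomial.X ^ 2 - Polynomial.C (t ^ 2 - 4)) * (Polynomial.X ^ 2 - Polynomial.C (t ^ 2))
      have hm1 : (Polynomial.X ^ 2 - Polynomial.C (t ^ 2 - 4) : Polynomial F).Monic :=
        Polynomial.monic_X_pow_sub_C _ two_ne_zero
      have hm2 : (Polynomial.X ^ 2 - Polynomial.C (t ^ 2) : Polynomial F).Monic :=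
        Polynomial.monic_X_pow_sub_C _ two_ne_zero
      have hP0 : P ≠ 0 := (hm1.mul hm2).ne_zero
      have hdeg : P.natDegree = 4 := by
        rw [hm1.natDegree_mul hm2, Polynomial.natDegree_X_pow_sub_C, Polynomial.natDegree_X_pow_sub_C]
      have h6 := Polynomial.card_le_degree_of_subset_roots (p := P) (Z := (Finset.univ : Finset F)) (by
        intro x hx
        rw [Polynomial.mem_roots hP0, Polynomial.IsRoot.def]
        simp only [P, Polynomial.eval_mul, Polynomial.eval_sub, Polynomial.eval_pow, Polynomial.eval_X,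
          Polynomial.eval_C]
        by_cases hx1 : x ^ 2 = t ^ 2 - 4
        · rw [hx1, sub_self, zero_mul]
        · rw [hcon x hx1, sub_self, mul_zero])
      rw [hdeg, Finset.card_univ] at h6
      omega
    obtain ⟨X, hX, hX'⟩ := key ρ
    rcases trace_of_pe_char hp2 hX with h | h <;> rw [hX'] at h
    · exact h1 (by linear_combination -h)
    · exact h2 (by linear_combination -h)
  · have hpF : (p : F) ≠ 0 := by
      intro h
      exact hpl ((Nat.prime_dvd_prime_iff_eq hℓp hp.out).1 ((CharP.cast_eq_zero_iff F ℓ p).1 h))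
    by_cases h2 : (2 : F) = 0
    · -- characteristic two
      have hℓ2 : ℓ = 2 := by
        have h3 : ((2 : ℕ) : F) = 0 := by exact_mod_cast h2
        exact (Nat.prime_dvd_prime_iff_eq hℓp Nat.prime_two).1 ((CharP.cast_eq_zero_iff F ℓ 2).1 h3)
      subst hℓ2
      have hch : ringChar F = 2 := ringChar.eq F 2
      have key2 : ∀ s : F, ∃ N : Matrix.SpecialLinearGroup (Fin 2) F, PE p (pr N) ∧
          (N : Matrix (Fin 2) (Fin 2) F).trace = s := by
        intro s
        obtain ⟨ρ, hρ⟩ := FiniteField.isSquare_of_char_two hch (t ^ 2 - 2 - s)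
        obtain ⟨X, hX, hX'⟩ := key ρ
        exact ⟨_, hX, by rw [hX']; linear_combination hρ⟩
      have hsq1 : ∀ c : F, c ^ 2 = 1 → c = 1 := by
        intro c hc
        have h3 : (c - 1) ^ 2 = 0 := by linear_combination hc + (1 - c) * h2
        have h4 := pow_eq_zero_iff two_ne_zero |>.1 h3
        linear_combination h4
      by_cases hpq : p ∣ Fintype.card F - 1
      · obtain ⟨s, hs⟩ := exists_not_sum (F := F)
        obtain ⟨N, hN, hNs⟩ := key2 s
        obtain ⟨k, c, hc, hNk⟩ := exists_pow_eq hN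
        have hN1 : N ^ (p ^ k) = 1 := by
          apply Subtype.ext
          rw [Matrix.SpecialLinearGroup.coe_pow, hNk, hsq1 c hc, map_one, Matrix.SpecialLinearGroup.coe_one]
        have hN2 := H169.PSLTwoAut.pow_eq_one_of_trace (p := 2) N (s := (n : ℕ)) (by
          rw [← hn]; exact FiniteField.pow_card _)
        have hN3 : N ^ Nat.gcd (p ^ k) (((2 ^ (n : ℕ) - 1) * (2 ^ (n : ℕ) + 1)) * 2) = 1 :=
          pow_gcd_eq_one.2 ⟨hN1, hN2⟩
        have hcop : Nat.gcd (p ^ k) (((2 ^ (n : ℕ) - 1) * (2 ^ (n : ℕ) + 1)) * 2) ∣ Fintype.card F - 1 := by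
          have hq : 1 ≤ 2 ^ (n : ℕ) := Nat.one_le_two_pow
          have e1 : Nat.Coprime (p ^ k) 2 := by
            apply Nat.Coprime.pow_left
            exact (Nat.coprime_primes hp.out Nat.prime_two).2 hp2
          have e2 : Nat.Coprime (p ^ k) (2 ^ (n : ℕ) + 1) := by
            apply Nat.Coprime.pow_left
            rw [Nat.Prime.coprime_iff_not_dvd hp.out]
            intro h5
            rw [hn] at hpq
            have h6 : p ∣ 2 := by
              have := Nat.dvd_sub h5 hpq
              have e : 2 ^ (n : ℕ) + 1 - (2 ^ (n : ℕ) - 1) = 2 := by omega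
              rwa [e] at this
            exact hp2 ((Nat.prime_dvd_prime_iff_eq hp.out Nat.prime_two).1 h6)
          rw [Nat.Coprime.gcd_mul_right_cancel_right _ e1.symm, Nat.Coprime.gcd_mul_right_cancel_right _ e2.symm, hn]
          exact Nat.gcd_dvd_right _ _
        have hN4 : N ^ (Fintype.card F - 1) = 1 := by
          obtain ⟨m, hm⟩ := hcop
          rw [hm, pow_mul, hN3, one_pow]
        have hN5 : (N : Matrix (Fin 2) (Fin 2) F) ^ Fintype.card F = N := by
          rw [← Matrix.SpecialLinearGroup.coe_pow]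
          congr 1
          have h1 : 1 ≤ Fintype.card F := Fintype.card_pos
          calc N ^ Fintype.card F = N ^ (Fintype.card F - 1 + 1) := by rw [Nat.sub_add_cancel h1]
            _ = N := by rw [pow_succ, hN4, one_mul]
        obtain ⟨a, ha⟩ := exists_root_of_pow _ hN5
        rw [det_sub, hNs] at ha
        have ha0 : a ≠ 0 := by
          rintro rfl
          norm_num at ha
        apply hs a ha0
        field_simp
        linear_combination -ha
      · obtain ⟨x, hx0, hx1⟩ : ∃ x : F, x ≠ 0 ∧ x ≠ 1 := by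
          classical
          by_contra hcon
          push Not at hcon
          have h5 : (Finset.univ : Finset F) ⊆ {0, 1} := by
            intro x _
            by_cases h0 : x = 0
            · simp [h0]
            · simp [hcon x h0]
          have h6 := Finset.card_le_card h5
          have h7 := Finset.card_le_two (a := (0 : F)) (b := 1)
          rw [Finset.card_univ] at h6
          omega
        obtain ⟨N, hN, hNs⟩ := key2 (x + x⁻¹)
        obtain ⟨k, hk⟩ := pow_of_root hN (x := x) (by rw [hNs]; field_simp; ring)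
        have h5 : (x ^ 2) ^ (Fintype.card F - 1) = 1 := FiniteField.pow_card_sub_one_eq_one _ (pow_ne_zero _ hx0)
        have h6 : (x ^ 2) ^ Nat.gcd (p ^ k) (Fintype.card F - 1) = 1 :=
          orderOf_dvd_iff_pow_eq_one.1 (Nat.dvd_gcd (orderOf_dvd_of_pow_eq_one hk) (orderOf_dvd_of_pow_eq_one h5))
        have h7 : Nat.gcd (p ^ k) (Fintype.card F - 1) = 1 := by
          apply Nat.Coprime.pow_left
          exact (Nat.Prime.coprime_iff_not_dvd hp.out).2 hpq
        rw [h7, pow_one] at h6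
        exact hx1 (hsq1 x h6)
    · -- odd characteristic, trace `-2`
      obtain ⟨X, hX, hX'⟩ := key t
      have hN := eq_of_trace_neg_two hpF hX (by rw [hX']; ring)
      have ht0 : t ≠ 0 := by
        intro h0
        have h3 := sq_eq A
        rw [← ht, h0, zero_smul, zero_sub, ← Matrix.SpecialLinearGroup.coe_mul] at h3
        have h4 : pr (A * A) = 1 := by
          rw [← map_one pr]
          refine (pr_eq_of_smul (c := -1) ?_).symm
          rw [h3, Matrix.SpecialLinearGroup.coe_one, neg_smul, one_smul]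
        rw [map_mul, ← pow_two] at h4
        have h5 := orderOf_dvd_of_pow_eq_one h4
        rw [hk] at h5
        exact hp2 ((Nat.prime_dvd_prime_iff_eq hp.out Nat.prime_two).1 h5)
      -- `X A X⁻¹ = - A⁻¹`
      have h3 : ((X * A * X⁻¹ : Matrix.SpecialLinearGroup (Fin 2) F) : Matrix (Fin 2) (Fin 2) F) =
          - ((A⁻¹ : Matrix.SpecialLinearGroup (Fin 2) F) : Matrix (Fin 2) (Fin 2) F) := by
        have h4 : (X * A * X⁻¹ : Matrix.SpecialLinearGroup (Fin 2) F) = A⁻¹ * (A * (X * A * X⁻¹)) := by group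
        rw [h4, Matrix.SpecialLinearGroup.coe_mul, hN, mul_neg, mul_one]
      have h5 := congrArg Matrix.trace h3
      rw [trace_neg, Matrix.SpecialLinearGroup.coe_mul, Matrix.trace_mul_comm, ← Matrix.SpecialLinearGroup.coe_mul,
        inv_mul_cancel_left, Matrix.SpecialLinearGroup.coe_inv, Matrix.adjugate_fin_two, trace_fin_two_of] at h5
      have h6 : t = (A : Matrix (Fin 2) (Fin 2) F) 0 0 + (A : Matrix (Fin 2) (Fin 2) F) 1 1 := by
        rw [ht, trace_fin_two]
      have h7 : (2 : F) * t = 0 := by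
        rw [← ht] at h5
        linear_combination h5 + h6
      exact (mul_ne_zero h2 ht0) h7

end Fin

end Cfsg.Agent.H654.AAInner
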