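import Mathlib
import Cfsg.Agent.H654.AAInner
import Cfsg.Agent.H654.AAField

/-!
# The `AA` core for `PSL₂(F)` (helper654, task 571 for S3833, S3834, S3840)
-/

set_option autoImplicit false

namespace Cfsg.Agent.H654.AAPsl2

open Matrix
open Cfsg.Agent.ClassicalGeometry.AutPSL.Root
open Cfsg.Agent.ClassicalGeometry.AutPSL.Auto
open Cfsg.Agent.ClassicalGeometry.AutPSL.Main
open Cfsg.Agent.H460.AA

/-- **The `AA` core for `PSL₂(F)`, `|F| ≥ 4`** (the condition `RC` is not needed). -/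
theorem not_PA {F : Type*} [Field F] [Finite F] (h : 4 ≤ Nat.card F) {p : ℕ} [hp : Fact p.Prime] (hp2 : p ≠ 2)
    {x : MulAut (Matrix.ProjectiveSpecialLinearGroup (Fin 2) F)} (hx : orderOf x = p) (hP : PA p x) : False := by
  have := Fintype.ofFinite F
  rw [Nat.card_eq_fintype_card] at h
  obtain ⟨ℓ, hℓ⟩ := CharP.exists F
  have hℓp : ℓ.Prime := CharP.char_is_prime F ℓ
  have : Fact ℓ.Prime := ⟨hℓp⟩
  obtain ⟨M, σ, rfl⟩ := surj_two ℓ x
  have hpow : (lift (cj M * fld σ)) ^ p = 1 := by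
    have h1 := pow_orderOf_eq_one (lift (cj M * fld σ))
    rwa [hx] at h1
  by_cases hσ : σ = 1
  · subst hσ
    rw [map_one fld, mul_one] at hx hP hpow
    obtain ⟨k, hk⟩ := H169.PSLTwoAut.inner_of_odd M (hp.out.odd_of_ne_two hp2) hpow
    rw [hk] at hx hP
    rw [orderOf_injective (MulAut.conj : Matrix.ProjectiveSpecialLinearGroup (Fin 2) F →* _)
      (conj_injective AAField.center_psl) k] at hx
    exact AAInner.inner_core h hp2 hx (pe_of_PA AAField.center_psl hP)
  · obtain ⟨h1, B, hB⟩ := CpAut.Psl.exists_conj hp.out hpow hσ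
    rw [hB, map_mul, map_mul, map_inv] at hP
    refine AAField.field_core hp2 h1 ?_
    have h2 := PA_tr (lift (cj B)).symm hP
    convert h2 using 1
    ext y
    rw [H459.Rad.tr_apply]
    simp [MulAut.mul_apply, MulAut.inv_def]

/-- **The `AA` core for `PSL₂(F)`, `|F| ≥ 4`** -/
theorem core_psl2 (F : Type*) [Field F] [Finite F] (h : 4 ≤ Nat.card F) :
    Core (Matrix.ProjectiveSpecialLinearGroup (Fin 2) F) :=
  fun _ _ hp2 _ hx _ hP => not_PA h hp2 hx hP

end Cfsg.Agent.H654.AAPsl2
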