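import Cfsg.Agent.H652.Four.Base
import Mathlib.GroupTheory.SpecificGroups.Alternating
import Mathlib.GroupTheory.Perm.Cycle.Concrete

/-!
# Steps for `NN M (cl x)`, and the class of elements of order three of `A₅` (helper654)

* `nn_congr`      : conjugate elements have the same class function;
* `nn_step`       : `P` an abelian `p`-subgroup, `N` normal in `C_G(P)` and containing the `G`-conjugates of `x`
  in `C_G(P)`, which form the class of `x'` in `N`;
* `nn_alt_five`   : `NN M (cl y)` for `y : A₅` of order three, `p = 2`;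
* `nn_of_alt_five`: `u` an involution, `A₅ ≅ H₀` normal in `C(u)`, containing the elements of order three of `C(u)`.
-/

set_option autoImplicit false

open Cfsg

namespace Cfsg.Agent.H654.FourStep

open Cfsg.Agent.H652.Four Cfsg.Agent.Blocks.LocalRing Cfsg.Agent.Blocks
open Subgroup

section gen

variable {G : Type*} [Group G] {p : ℕ} {M : Ideal AlgInt}

theorem cl_eq {x y : G} (h : IsConj x y) : cl x = cl y := by
  funext g
  by_cases hg : IsConj x g
  · rw [cl_pos hg, cl_pos (h.symm.trans hg)]
  · rw [cl_neg hg, cl_neg (fun h' => hg (h.trans h'))]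

theorem nn_congr {x y : G} (h : IsConj x y) (hy : NN M (cl y)) : NN M (cl x) := by
  rwa [cl_eq h]

theorem memLocalRing_cl (hM : IsPModular p M) (x g : G) : MemLocalRing M (cl x g) := by
  by_cases hg : IsConj x g
  · rw [cl_pos hg]
    simpa using memLocalRing_natCast hM 1
  · rw [cl_neg hg]
    simpa using memLocalRing_natCast hM 0

theorem nn_step [Finite G] (hM : IsPModular p M) {P : Subgroup G} (hP : IsPGroup p P)
    (hPC : P ≤ centralizer (P : Set G)) (N : Subgroup (centralizer (P : Set G))) [N.Normal]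
    {x : G} (hN : ∀ g : centralizer (P : Set G), IsConj x g → g ∈ N) (x' : N)
    (hx' : ∀ g : N, IsConj x ((g : centralizer (P : Set G)) : G) ↔ IsConj x' g)
    (h : NN M (cl x')) : NN M (cl x) := by
  refine NN.brauer hM hP hPC (fun g y => cl_conj x y g) (memLocalRing_cl hM x) ?_
  refine NN.normal (N := N) (fun g y => ?_) (fun g hg => ?_) ?_
  · exact cl_conj x (y : G) (g : G)
  · exact cl_neg fun h' => hg (hN g h')
  · have e : (fun n : N => (fun h : centralizer (P : Set G) => cl x (h : G)) (n : centralizer (P : Set G))) =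
        cl x' := by
      funext g
      by_cases hg : IsConj x' g
      · rw [cl_pos hg]
        exact cl_pos ((hx' g).2 hg)
      · rw [cl_neg hg]
        exact cl_neg fun h' => hg ((hx' g).1 h')
    rw [e]
    exact h

end gen

/-! ## `A₅` -/

/-- a three-cycle -/
def y0 : alternatingGroup (Fin 5) := ⟨c[0, 1, 2], Equiv.Perm.mem_alternatingGroup.2 (by decide)⟩

theorem y0_conj : ∀ a : alternatingGroup (Fin 5), a * a * a = 1 → a ≠ 1 →
    ∃ g : alternatingGroup (Fin 5), g * y0 * g⁻¹ = a := by
  decide +kernel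

theorem y0_cube : y0 * y0 * y0 = 1 := by decide +kernel

theorem y0_ne : y0 ≠ 1 := by decide +kernel

theorem count7 : (Finset.univ.filter fun a : alternatingGroup (Fin 5) =>
    (a * a * a = 1 ∧ a ≠ 1) ∧ (a⁻¹ * y0) * (a⁻¹ * y0) * (a⁻¹ * y0) = 1 ∧ a⁻¹ * y0 ≠ 1).card = 7 := by
  decide +kernel

theorem count3 : (Finset.univ.filter fun a : alternatingGroup (Fin 5) => a * y0 = y0 * a).card = 3 := by
  decide +kernel

theorem isConj_y0 {a : alternatingGroup (Fin 5)} : IsConj y0 a ↔ a * a * a = 1 ∧ a ≠ 1 := by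
  constructor
  · intro h
    obtain ⟨g, rfl⟩ := isConj_iff.1 h
    constructor
    · have e : g * y0 * g⁻¹ * (g * y0 * g⁻¹) * (g * y0 * g⁻¹) = g * (y0 * y0 * y0) * g⁻¹ := by group
      rw [e, y0_cube, mul_one, mul_inv_cancel]
    · intro h1
      apply y0_ne
      have e : y0 = g⁻¹ * (g * y0 * g⁻¹) * g := by group
      rw [e, h1, mul_one, inv_mul_cancel]
  · rintro ⟨h1, h2⟩
    obtain ⟨g, hg⟩ := y0_conj a h1 h2
    exact isConj_iff.2 ⟨g, hg⟩

theorem npairs_y0 : H672.SC.npairs y0 y0 y0 = 7 := by
  classical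
  unfold H672.SC.npairs
  have e : {p : alternatingGroup (Fin 5) × alternatingGroup (Fin 5) //
      IsConj y0 p.1 ∧ IsConj y0 p.2 ∧ p.1 * p.2 = y0} ≃
      {a : alternatingGroup (Fin 5) //
        (a * a * a = 1 ∧ a ≠ 1) ∧ (a⁻¹ * y0) * (a⁻¹ * y0) * (a⁻¹ * y0) = 1 ∧ a⁻¹ * y0 ≠ 1} :=
    { toFun := fun q => ⟨q.1.1, isConj_y0.1 q.2.1, by
        have h : q.1.1⁻¹ * y0 = q.1.2 := inv_mul_eq_of_eq_mul q.2.2.2.symm
        rw [h]
        exact isConj_y0.1 q.2.2.1⟩
      invFun := fun a => ⟨(a.1, a.1⁻¹ * y0), isConj_y0.2 a.2.1, isConj_y0.2 a.2.2,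
        mul_inv_cancel_left _ _⟩
      left_inv := fun q => by
        apply Subtype.ext
        apply Prod.ext
        · rfl
        · exact inv_mul_eq_of_eq_mul q.2.2.2.symm
      right_inv := fun a => rfl }
  rw [Nat.card_congr e, Nat.card_eq_fintype_card, Fintype.card_subtype]
  exact count7

theorem card_cent_y0 : Nat.card (centralizer ({y0} : Set (alternatingGroup (Fin 5)))) = 3 := by
  classical
  have e : centralizer ({y0} : Set (alternatingGroup (Fin 5))) ≃
      {a : alternatingGroup (Fin 5) // a * y0 = y0 * a} :=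
    Equiv.subtypeEquivRight fun a => mem_centralizer_singleton_iff
  rw [Nat.card_congr e, Nat.card_eq_fintype_card, Fintype.card_subtype]
  exact count3

variable {M : Ideal AlgInt}

theorem nn_alt_five (hM : IsPModular 2 M) {y : alternatingGroup (Fin 5)} (hy : orderOf y = 3) :
    NN M (cl y) := by
  have h3 : y ^ 3 = 1 := hy ▸ pow_orderOf_eq_one y
  have hc : IsConj y0 y := by
    refine isConj_y0.2 ⟨?_, ?_⟩
    · rw [← h3, pow_succ, pow_two]
    · rintro rfl
      rw [orderOf_one] at hy
      omega
  refine nn_congr hc.symm (NN.of_npairs hM (x := y0) (y := y0) (g := y0) ?_ ?_)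
  · rw [card_cent_y0]; norm_num
  · rw [npairs_y0]; norm_num

/-- `u` an involution, `A₅ ≅ H₀` normal in `C(u)`, containing the elements of order three of `C(u)` -/
theorem nn_of_alt_five {G : Type*} [Group G] [Finite G] (hM : IsPModular 2 M) {u : G} (hu : orderOf u = 2)
    (H0 : Subgroup G) (hle : H0 ≤ centralizer ({u} : Set G))
    (hnorm : ∀ h ∈ centralizer ({u} : Set G), ∀ x ∈ H0, h * x * h⁻¹ ∈ H0)
    (h3 : ∀ g ∈ centralizer ({u} : Set G), g * g * g = 1 → g ∈ H0)
    (e : H0 ≃* alternatingGroup (Fin 5)) {x : G} (hx : orderOf x = 3) (hxH : x ∈ H0) : NN M (cl x) := by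
  have hx3 : x * x * x = 1 := by
    have := pow_orderOf_eq_one x
    rwa [hx, pow_succ, pow_two] at this
  have hx1 : x ≠ 1 := by
    rintro rfl
    rw [orderOf_one] at hx
    omega
  -- the subgroup `P`
  have hCle : centralizer ((zpowers u : Subgroup G) : Set G) ≤ centralizer ({u} : Set G) :=
    centralizer_le (by rw [Set.singleton_subset_iff]; exact mem_zpowers u)
  have hCge : centralizer ({u} : Set G) ≤ centralizer ((zpowers u : Subgroup G) : Set G) := by
    intro g hg
    rw [mem_centralizer_iff]
    rintro _ ⟨k, rfl⟩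
    have h1 : Commute u g := (mem_centralizer_singleton_iff.1 hg).symm
    exact (h1.zpow_left k).eq
  have hP : IsPGroup 2 (zpowers u) :=
    IsPGroup.of_card (n := 1) (by rw [Nat.card_zpowers, hu, pow_one])
  have hPC : zpowers u ≤ centralizer ((zpowers u : Subgroup G) : Set G) := by
    refine le_trans ?_ hCge
    rintro g ⟨k, rfl⟩
    exact mem_centralizer_singleton_iff.2 ((Commute.refl u).zpow_left k).eq
  have hle' : H0 ≤ centralizer ((zpowers u : Subgroup G) : Set G) := hle.trans hCge
  have hNn : (H0.subgroupOf (centralizer ((zpowers u : Subgroup G) : Set G))).Normal :=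
    ⟨fun n hn g => hnorm g (hCle g.2) n hn⟩
  let f : H0.subgroupOf (centralizer ((zpowers u : Subgroup G) : Set G)) ≃* alternatingGroup (Fin 5) :=
    (subgroupOfEquivOfLe hle').trans e
  refine nn_step hM hP hPC (H0.subgroupOf (centralizer ((zpowers u : Subgroup G) : Set G))) (x := x)
    (fun g hg => ?_) ⟨⟨x, hle' hxH⟩, hxH⟩ (fun g => ?_) (NN.of_equiv f (nn_alt_five hM ?_))
  · -- conjugates of `x` in `C(u)` lie in `H0`
    refine h3 g (hCle g.2) ?_
    obtain ⟨c, hc⟩ := isConj_iff.1 hg
    rw [← hc]
    have e1 : c * x * c⁻¹ * (c * x * c⁻¹) * (c * x * c⁻¹) = c * (x * x * x) * c⁻¹ := by group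
    rw [e1, hx3, mul_one, mul_inv_cancel]
  · constructor
    · intro hg
      obtain ⟨c, hc⟩ := isConj_iff.1 hg
      have hg3 : ((g : centralizer ((zpowers u : Subgroup G) : Set G)) : G) *
          ((g : centralizer ((zpowers u : Subgroup G) : Set G)) : G) *
          ((g : centralizer ((zpowers u : Subgroup G) : Set G)) : G) = 1 := by
        rw [← hc]
        have e1 : c * x * c⁻¹ * (c * x * c⁻¹) * (c * x * c⁻¹) = c * (x * x * x) * c⁻¹ := by group
        rw [e1, hx3, mul_one, mul_inv_cancel]
      have hg1 : ((g : centralizer ((zpowers u : Subgroup G) : Set G)) : G) ≠ 1 := by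
        intro h1
        apply hx1
        rw [h1] at hc
        have e1 : x = c⁻¹ * (c * x * c⁻¹) * c := by group
        rw [e1, hc, mul_one, inv_mul_cancel]
      have k1 : IsConj y0 (f g) := by
        refine isConj_y0.2 ⟨?_, ?_⟩
        · rw [← map_mul, ← map_mul, ← map_one f]
          congr 1
          exact Subtype.ext (Subtype.ext hg3)
        · intro h1
          apply hg1
          have := f.injective (h1.trans (map_one f).symm)
          rw [this]
          rfl
      have k2 : IsConj y0 (f ⟨⟨x, hle' hxH⟩, hxH⟩) := by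
        refine isConj_y0.2 ⟨?_, ?_⟩
        · rw [← map_mul, ← map_mul, ← map_one f]
          congr 1
          exact Subtype.ext (Subtype.ext hx3)
        · intro h1
          apply hx1
          have := f.injective (h1.trans (map_one f).symm)
          exact congrArg (fun z => ((z : centralizer ((zpowers u : Subgroup G) : Set G)) : G))
            (congrArg Subtype.val this)
      obtain ⟨d, hd⟩ := isConj_iff.1 (k2.symm.trans k1)
      refine isConj_iff.2 ⟨f.symm d, f.injective ?_⟩
      rw [map_mul, map_mul, map_inv, f.apply_symm_apply]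
      exact hd
    · intro hg
      obtain ⟨c, hc⟩ := isConj_iff.1 hg
      refine isConj_iff.2 ⟨((c : centralizer ((zpowers u : Subgroup G) : Set G)) : G), ?_⟩
      rw [← hc]
      rfl
  · rw [MulEquiv.orderOf_eq, ← hx]
    exact (Subgroup.orderOf_coe _).symm.trans (Subgroup.orderOf_coe _).symm

end Cfsg.Agent.H654.FourStep
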